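import Cfsg.Agent.Lib.Helper56.SuzP4.ChkP0
import Cfsg.Agent.Lib.Helper56.SuzP4.ChkP1
import Cfsg.Agent.Lib.Helper56.SuzP4.ChkP2
import Cfsg.Agent.Lib.Helper56.SuzP4.ChkP3
import Cfsg.Agent.Lib.Helper56.SuzP4.ChkP4
import Cfsg.Agent.Lib.Helper56.SuzP4.ChkP5
import Cfsg.Agent.Lib.Helper56.SuzP4.ChkP6
import Cfsg.Agent.Lib.Helper56.SuzP4.ChkP7
import Cfsg.Agent.Lib.Helper56.SuzP4.ChkP8
import Cfsg.Agent.Lib.Helper56.SuzP4.ChkF0
import Cfsg.Agent.Lib.Helper56.SuzP4.ChkF1
import Cfsg.Agent.Lib.Helper56.SuzP4.ChkF2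
import Cfsg.Agent.Lib.Helper56.SuzP4.ChkF3
import Cfsg.Agent.Lib.Helper56.SuzP4.ChkF4
import Cfsg.Agent.Lib.Helper56.SuzP4.ChkF5
import Cfsg.Agent.Lib.Helper56.SuzP4.ChkF6
import Cfsg.Agent.Lib.Helper56.SuzP4.ChkF7
import Cfsg.Agent.Lib.Helper56.SuzP4.ChkF8
import Cfsg.Agent.Lib.Helper56.SuzP4.ChkF9
import Cfsg.Agent.Lib.Helper56.SuzP4.ChkF10
import Cfsg.Agent.Lib.Helper56.SuzP4.ChkF11
import Cfsg.Agent.Lib.Helper56.SuzP4.ChkF12
import Cfsg.Agent.Lib.Helper56.SuzP4.ChkF13
import Cfsg.Agent.Lib.Helper56.SuzP4.ChkF14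
import Cfsg.Agent.Lib.Helper56.SuzP4.ChkF15
import Cfsg.Agent.Lib.Helper56.SuzP4.ChkF16
import Cfsg.Agent.Lib.Helper56.SuzP4.ChkF17
import Cfsg.Agent.Lib.Helper56.SuzP4.ChkF18
import Cfsg.Agent.Lib.Helper56.SuzP4.ChkF19
import Cfsg.Agent.Lib.Helper56.SuzP4.ChkF20
import Cfsg.Agent.Lib.Helper56.SuzP4.ChkF21
import Cfsg.Agent.Lib.Helper56.SuzP4.ChkC0
import Cfsg.Agent.Lib.Helper56.SuzP4.ChkC1
import Cfsg.Agent.Lib.Helper56.SuzP4.ChkC2

set_option autoImplicit false
set_option linter.unusedVariables false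

namespace Cfsg.Agent.Lib.Helper56.SuzP4

open Cfsg.Agent.Lib.Helper28.TC

noncomputable section

def NNpad : ℕ := 22528
theorem permP_all : ∀ i, i < nn → permP i = true := by
  refine all_of_blocks nn permP 8 9 (by decide) ?_
  intro k hk
  interval_cases k
  · exact permP_blk0
  · exact permP_blk1
  · exact permP_blk2
  · exact permP_blk3
  · exact permP_blk4
  · exact permP_blk5
  · exact permP_blk6
  · exact permP_blk7
  · exact permP_blk8

theorem factP_all : ∀ i, i < NNpad → factP i = true := by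
  refine allBlocks_spec factP 10 22 ?_
  intro k hk
  interval_cases k
  · exact factP_blk0
  · exact factP_blk1
  · exact factP_blk2
  · exact factP_blk3
  · exact factP_blk4
  · exact factP_blk5
  · exact factP_blk6
  · exact factP_blk7
  · exact factP_blk8
  · exact factP_blk9
  · exact factP_blk10
  · exact factP_blk11
  · exact factP_blk12
  · exact factP_blk13
  · exact factP_blk14
  · exact factP_blk15
  · exact factP_blk16
  · exact factP_blk17
  · exact factP_blk18
  · exact factP_blk19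
  · exact factP_blk20
  · exact factP_blk21

theorem closedP_all : ∀ i, i < nn → closedP i = true := by
  refine all_of_blocks nn closedP 10 3 (by decide) ?_
  intro k hk
  interval_cases k
  · exact closedP_blk0
  · exact closedP_blk1
  · exact closedP_blk2

theorem hotA_lt : hotA < 2 ^ (32 * 22528) := by decide +kernel
theorem hotE0_lt : hotE0 < 2 ^ (32 * 22528) := by decide +kernel
theorem hotE1_lt : hotE1 < 2 ^ (32 * 22528) := by decide +kernel
theorem hotE2_lt : hotE2 < 2 ^ (32 * 22528) := by decide +kernel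
theorem hotE3_lt : hotE3 < 2 ^ (32 * 22528) := by decide +kernel
theorem subFix : allList (fun w => Nat.beq (act tf w 0) 0) subWords = true := by decide +kernel

end

end Cfsg.Agent.Lib.Helper56.SuzP4
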